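import Mathlib.Tactic
import Cfsg.Agent.OddOrderCharacters.PF10.Ctx
import Mathlib
import Cfsg.Agent.OddOrderCharacters.PF4b.CohExt
set_option linter.all false

-- part: OddOrderCharacters/PF10Arith
section
/-!
# Arithmetic lemmas for Peterfalvi §10
-/

set_option autoImplicit false

namespace Cfsg.Agent.OddOrderCharacters.PF10Arith

/-- The arithmetic of (10.5): `n w₁ = d - δ`, `(d a)² ≤ (2 + n²) w₁` force `a = 0`. -/
theorem arith_10_5 {n w d e a : ℤ} (he : e = 1 ∨ e = -1) (hn : n * w = d - e) (hn0 : 0 ≤ n)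
    (hd : Odd d) (hd1 : 1 < d) (hw : Odd w) (hw3 : 3 ≤ w)
    (h : (d * a) ^ 2 ≤ (2 + n ^ 2) * w) : a = 0 := by
  by_contra ha
  have ha2 : 1 ≤ a ^ 2 := by
    have : 0 < a ^ 2 := by positivity
    linarith
  have hd2 : d ^ 2 ≤ (2 + n ^ 2) * w := by
    have : d ^ 2 * 1 ≤ d ^ 2 * a ^ 2 := by
      apply mul_le_mul_of_nonneg_left ha2; positivity
    nlinarith
  have hde : d = n * w + e := by linarith
  have hee : e ^ 2 = 1 := by rcases he with rfl | rfl <;> norm_num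
  -- `n` is even
  have hneven : Even n := by
    have h1 : Even (n * w) := by
      rw [hn]
      have : Odd e := by rcases he with rfl | rfl <;> decide
      exact hd.sub_odd this
    rcases Int.even_mul.1 h1 with h2 | h2
    · exact h2
    · exact absurd h2 (Int.not_even_iff_odd.2 hw)
  have hn0' : n ≠ 0 := by
    rintro rfl
    rw [zero_mul, zero_add] at hde
    rcases he with rfl | rfl <;> omega
  have hn2 : 2 ≤ n := by
    obtain ⟨k, hk⟩ := hneven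
    omega
  -- `n² w (w - 1) ≤ 2 w - 2 n w e - 1`
  have h3 : n ^ 2 * w ^ 2 + 2 * n * w * e + 1 ≤ 2 * w + n ^ 2 * w := by
    have : d ^ 2 = n ^ 2 * w ^ 2 + 2 * n * w * e + 1 := by
      rw [hde]; ring_nf; rw [hee]; ring
    rw [← this]; linarith
  have hwpos : 0 < w := by linarith
  -- `n² (w - 1) < 2 - 2 n e`
  have h4 : w * (n ^ 2 * (w - 1)) < w * (2 - 2 * n * e) := by nlinarith
  have h5 : n ^ 2 * (w - 1) < 2 - 2 * n * e := lt_of_mul_lt_mul_left h4 hwpos.le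
  have h6 : -(n * e) ≤ n := by
    rcases he with rfl | rfl <;> nlinarith
  have h7 : n ^ 2 * 2 ≤ n ^ 2 * (w - 1) := by
    apply mul_le_mul_of_nonneg_left _ (by positivity)
    linarith
  nlinarith

end Cfsg.Agent.OddOrderCharacters.PF10Arith
end

-- part: OddOrderCharacters/PF10/Defs
section
/-!
# Peterfalvi, Section 10: vocabulary (on top of `PF10.Ctx.Hyp`)
-/

set_option autoImplicit false

open Cfsg
open Cfsg.Agent.OddOrderCharacters.PFDefs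

namespace Cfsg.Agent.OddOrderCharacters.PF10.Defs

universe u

variable {G : Type u} [Group G]

/-- `K#` -/
def sharp (K : Subgroup G) : Set G := {x | x ∈ K ∧ x ≠ 1}

theorem mem_sharp {K : Subgroup G} {x : G} : x ∈ sharp K ↔ x ∈ K ∧ x ≠ 1 := Iff.rfl

variable [Fintype G]

/-- `ζ`: an irreducible member of `S = seqIndOf L K K ⊥` of degree `w₁` (it exists by (10.2)). -/
structure IsZeta (L K W₁ : Subgroup G) [Fintype ↥L] (ζ : ↥L → ℂ) : Prop where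
  irr : IsIrrCharacter ↥L ζ
  mem : ζ ∈ seqIndOf L K K ⊥
  deg : ζ 1 = (Nat.card ↥W₁ : ℂ)

/-- The conclusion of (10.6) and of (10.9): `τ(μ_0 - ζ) = Σ_i η_i0 - χ`, `χ` a virtual character of norm one
orthogonal to all the `η_ij`. -/
structure IsChi {L : Subgroup G} [Fintype ↥L] (W W₂ : Subgroup G) (τ : (↥L → ℂ) → (G → ℂ))
    (μ : (↥W →* ℂˣ) → (↥L → ℂ)) (η : (↥W →* ℂˣ) → (G → ℂ)) (ζ : ↥L → ℂ) (χ : G → ℂ) : Prop where
  gen : IsGeneralizedCharacter G χ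
  norm : classInner χ χ = 1
  ortho : ∀ ω, classInner χ (η ω) = 0
  eq : τ (colSum W W₂ μ 1 - ζ) = colSum W W₂ η 1 - χ

/-- A coherent extension `τ₁` of `τ` to the integer span of `S₁`. -/
structure IsCohExt {L : Subgroup G} [Fintype ↥L] (S₁ : Set (↥L → ℂ)) (τ τ₁ : (↥L → ℂ) → (G → ℂ)) :
    Prop where
  iso : IsLinearIsometryOn (zspan S₁) τ₁
  ext : ∀ α ∈ zspanOn S₁ {1}ᶜ, τ₁ α = τ α

/-- Hypothesis (10.1): `M` is a maximal subgroup of type P with data `(W₁, U, W₂)`, not of Type II; then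
`M_s = M'` and `A(M) = A₁(M) = M'#`; `W = W₁W₂`. -/
structure HypM (M W₁ U W₂ W : Subgroup G) [Fintype ↥M]
    (μ : (↥W →* ℂˣ) → (↥M → ℂ)) (δ : (↥W →* ℂˣ) → ℤ) (η : (↥W →* ℂˣ) → (G → ℂ))
    (d : ℕ) (e n : ℤ) : Prop where
  hG : IsMinSimpleOddOrder G
  hM : IsCoatom M
  hP : IsTypePWith M W₁ U W₂
  notII : ¬ IsOfTypeII M
  sup_eq : W₁ ⊔ W₂ = W
  prime : (Nat.card ↥W₂).Prime
  W₂_le : W₂ ≤ ⁅⁅M, M⁆, ⁅M, M⁆⁆
  derived_ne : ⁅⁅M, M⁆, ⁅M, M⁆⁆ ≠ ⁅M, M⁆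
  typeCore_eq : typeCore M = ⁅M, M⁆
  typeA1_eq : typeA1 M = sharp ⁅M, M⁆
  typeA_eq : typeA' M = sharp ⁅M, M⁆
  typeA0_eq : typeA0' M = sharp ⁅M, M⁆ ∪ classSupport (cycTIset W W₁ W₂) M
  dade₁ : DadeHypothesis (sharp ⁅M, M⁆) M (supportR M)
  hyp : Ctx.Hyp M ⁅M, M⁆ W W₁ W₂ (sharp ⁅M, M⁆) (typeA0' M) (supportR M) μ δ η d e n

end Cfsg.Agent.OddOrderCharacters.PF10.Defs
end

-- part: OddOrderCharacters/PF10/Bridge
section
/-!
# Peterfalvi (10.5): the image of the bridge characters under the Dade map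

* `bridge_coherence`: the general form used in (10.10) and (11.8): if `S₁` is a coherent set of irreducible
  members of `S` and `α_ij^τ = X + Y` with `Y` in the span of `τ₁(S₁)`, `Y ⊥ X` and `‖Y‖² = n²`, then
  `X = δ (η_ij - η_i0)`.
* `tau_alpha`: (10.5): if `S` is coherent then `α_ij^τ = δ (η_ij - η_i0) - n ζ^τ₁`.
-/

set_option autoImplicit false
set_option linter.unusedSectionVars false

open scoped ComplexConjugate
open Cfsg Cfsg.Agent.Characters.Core Cfsg.Agent.OddOrderCharacters.VChar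
  Cfsg.Agent.OddOrderCharacters.PFDefs Cfsg.Agent.OddOrderCharacters.ColSum
  Cfsg.Agent.OddOrderCharacters.PF4b.TIFam Cfsg.Agent.OddOrderCharacters.PF4b.Prime
  Cfsg.Agent.OddOrderCharacters.PF4b.CohExt
  Cfsg.Agent.OddOrderCharacters.PF10.Ctx

namespace Cfsg.Agent.OddOrderCharacters.PF10.Bridge

universe u

theorem zsmul_val {X : Type*} (m : ℤ) (f : X → ℂ) (x : X) : (m • f) x = (m : ℂ) * f x := by
  rw [Pi.smul_apply, zsmul_eq_mul]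

theorem nsmul_val {X : Type*} (m : ℕ) (f : X → ℂ) (x : X) : (m • f) x = (m : ℂ) * f x := by
  rw [Pi.smul_apply, nsmul_eq_mul]

theorem csmul_val {X : Type*} (m : ℂ) (f : X → ℂ) (x : X) : (m • f) x = m * f x := rfl

/-- Cauchy–Schwarz with integer values. -/
theorem int_cauchy {G : Type*} [Group G] [Fintype G] {x y : G → ℂ} {a b c : ℤ}
    (hxx : classInner x x = a) (hyy : classInner y y = b) (hxy : classInner x y = c)
    (hb : 0 < b) : c ^ 2 ≤ a * b := by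
  have hyx : classInner y x = c := by
    rw [← classInner_conj_symm x y, hxy]
    simp
  have h1 : classInner (b • x - c • y) (b • x - c • y) = ((b * (a * b - c ^ 2) : ℤ) : ℂ) := by
    simp only [classInner_sub_left, classInner_sub_right, classInner_zsmul_left,
      classInner_zsmul_right, hxx, hyy, hxy, hyx]
    push_cast
    ring
  have h2 := classInner_self_re_nonneg (b • x - c • y)
  rw [h1, Complex.intCast_re] at h2
  have h3 : 0 ≤ b * (a * b - c ^ 2) := by exact_mod_cast h2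
  have h4 : 0 ≤ a * b - c ^ 2 := nonneg_of_mul_nonneg_right h3 hb
  linarith

/-! ### Linearity of the Dade map (no hypothesis needed) -/

section lin

variable {G : Type*} [Group G] {B : Set G} {M : Subgroup G} {Q : G → Subgroup G}

theorem dade_add (α β : ↥M → ℂ) :
    dadeIsometry B M Q (α + β) = dadeIsometry B M Q α + dadeIsometry B M Q β := by
  funext g
  rw [Pi.add_apply]
  unfold dadeIsometry
  split_ifs
  · rfl
  · rw [add_zero]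

theorem dade_zero : dadeIsometry B M Q (0 : ↥M → ℂ) = 0 := by
  funext g
  unfold dadeIsometry
  split_ifs <;> rfl

theorem dade_zsmul (m : ℤ) (α : ↥M → ℂ) :
    dadeIsometry B M Q (m • α) = m • dadeIsometry B M Q α := by
  funext g
  rw [Pi.smul_apply]
  unfold dadeIsometry
  split_ifs
  · rfl
  · rw [smul_zero]

theorem dade_sub (α β : ↥M → ℂ) :
    dadeIsometry B M Q (α - β) = dadeIsometry B M Q α - dadeIsometry B M Q β := by
  funext g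
  rw [Pi.sub_apply]
  unfold dadeIsometry
  split_ifs
  · rfl
  · rw [sub_zero]

theorem dade_sum {ι : Type*} (s : Finset ι) (f : ι → ↥M → ℂ) :
    dadeIsometry B M Q (∑ i ∈ s, f i) = ∑ i ∈ s, dadeIsometry B M Q (f i) := by
  classical
  induction s using Finset.induction_on with
  | empty => simp [dade_zero]
  | insert i s hi ih => rw [Finset.sum_insert hi, Finset.sum_insert hi, dade_add, ih]

end lin

variable {G : Type u} [Group G] [Fintype G] {L K W W₁ W₂ : Subgroup G} [Fintype ↥L]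
  {A A₀ : Set G} {R : G → Subgroup G}
  {μ : (↥W →* ℂˣ) → (↥L → ℂ)} {δ : (↥W →* ℂˣ) → ℤ} {η : (↥W →* ℂˣ) → (G → ℂ)}
  {d : ℕ} {e n : ℤ}

/-! ### Values on `V` -/

/-- The values of `α_ij` (hence of `α_ij^τ`) on `V`. -/
theorem alpha_V (h : Hyp L K W W₁ W₂ A A₀ R μ δ η d e n) {ζ : ↥L → ℂ}
    (hζS : ζ ∈ seqIndOf L K K ⊥) {φ ψ : ↥W →* ℂˣ} (hφ : φ ∈ lin₁ W W₂)
    (hψ : ψ ∈ lin₁ W W₁) (hψ1 : ψ ≠ 1) (w : ↥W) (_hw₁ : (w : G) ∉ W₁) (hw₂ : (w : G) ∉ W₂)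
    (hw : (w : G) ∈ L) :
    Ctx.alpha μ e n ζ φ ψ ⟨w, hw⟩ = (e : ℂ) * (((φ * ψ) w : ℂ) - (φ w : ℂ)) := by
  have hφψ := mul_notMem_lin₁ h.hD hφ hψ hψ1
  have hxv : Ctx.alpha μ e n ζ φ ψ ⟨w, hw⟩ = μ (φ * ψ) ⟨w, hw⟩ - e * μ φ ⟨w, hw⟩ - n * ζ ⟨w, hw⟩ := by
    simp [Ctx.alpha, zsmul_eq_mul]
  have hwK : (w : G) ∉ K := by
    intro hwK
    have h1 := W_inf_K h.hD.primeTI
    exact hw₂ (h1 ▸ (⟨w.2, hwK⟩ : (w : G) ∈ W ⊓ K))
  rw [hxv, h.hμ.eq_on (φ * ψ) w hw hw₂, h.hμ.eq_on φ w hw hw₂, S_off h.hD hζS ⟨w, hw⟩ hwK,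
    h.sgn _ hφψ, (mu_lin₁ h.hD.primeTI h.hμ hφ).2]
  push_cast
  ring

theorem alpha_classFun (h : Hyp L K W W₁ W₂ A A₀ R μ δ η d e n) {ζ : ↥L → ℂ}
    (hζ : IsIrrCharacter ↥L ζ) (φ ψ : ↥W →* ℂˣ) : IsClassFunction ↥L (Ctx.alpha μ e n ζ φ ψ) :=
  gen_isClassFunction (alpha_gen h hζ φ ψ)

theorem tau_alpha_V (h : Hyp L K W W₁ W₂ A A₀ R μ δ η d e n) {ζ : ↥L → ℂ}
    (hζ : IsIrrCharacter ↥L ζ) (hζS : ζ ∈ seqIndOf L K K ⊥) {φ ψ : ↥W →* ℂˣ}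
    (hφ : φ ∈ lin₁ W W₂) (hψ : ψ ∈ lin₁ W W₁) (hψ1 : ψ ≠ 1) (w : ↥W) (hw₁ : (w : G) ∉ W₁)
    (hw₂ : (w : G) ∉ W₂) :
    dadeIsometry A₀ L R (Ctx.alpha μ e n ζ φ ψ) w = (e : ℂ) * (((φ * ψ) w : ℂ) - (φ w : ℂ)) := by
  have hw : (w : G) ∈ L := W_le h.hD.primeTI w.2
  rw [dade_V h.hD (alpha_classFun h hζ φ ψ) w hw₁ hw₂ hw]
  exact alpha_V h hζS hφ hψ hψ1 w hw₁ hw₂ hw

theorem tau_alpha_gen (h : Hyp L K W W₁ W₂ A A₀ R μ δ η d e n) {ζ : ↥L → ℂ}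
    (hζ : IsIrrCharacter ↥L ζ) (hζS : ζ ∈ seqIndOf L K K ⊥) (hζ1 : ζ 1 = (Nat.card W₁ : ℂ))
    {φ ψ : ↥W →* ℂˣ} (hφ : φ ∈ lin₁ W W₂) (hψ : ψ ∈ lin₁ W W₁) (hψ1 : ψ ≠ 1) :
    IsGeneralizedCharacter G (dadeIsometry A₀ L R (Ctx.alpha μ e n ζ φ ψ)) :=
  dade_gen h.hD (alpha_gen h hζ φ ψ) (alpha_supp h hζS hζ1 hφ hψ hψ1)

theorem tau_alpha_norm (h : Hyp L K W W₁ W₂ A A₀ R μ δ η d e n) {ζ : ↥L → ℂ}
    (hζ : IsIrrCharacter ↥L ζ) (hζS : ζ ∈ seqIndOf L K K ⊥) (hζ1 : ζ 1 = (Nat.card W₁ : ℂ))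
    {φ ψ : ↥W →* ℂˣ} (hφ : φ ∈ lin₁ W W₂) (hψ : ψ ∈ lin₁ W W₁) (hψ1 : ψ ≠ 1) :
    classInner (dadeIsometry A₀ L R (Ctx.alpha μ e n ζ φ ψ))
      (dadeIsometry A₀ L R (Ctx.alpha μ e n ζ φ ψ)) = 2 + (n : ℂ) ^ 2 := by
  rw [dade_inner h.hD (alpha_classFun h hζ φ ψ) (alpha_supp h hζS hζ1 hφ hψ hψ1)
    (alpha_classFun h hζ φ ψ) (alpha_supp h hζS hζ1 hφ hψ hψ1), alpha_norm h hζ hζS φ hψ1]

/-- Elements of the `ℤ`-span of `τ₁ '' S₁`, `S₁` irreducible, are orthogonal to all `η ω`. -/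
theorem span_ortho_eta (hD : PrimeDadeHyp L K K A A₀ W W₁ W₂ R) (hη : CyclicTIFam W W₁ W₂ η)
    (hodd : Odd (Nat.card L)) {S₁ : Set (↥L → ℂ)} (hS₁ : S₁ ⊆ seqIndOf L K K ⊥)
    (hirr : ∀ χ ∈ S₁, IsIrrCharacter ↥L χ) (hconj : ∀ χ ∈ S₁, conjFun χ ∈ S₁)
    {τ₁ : (↥L → ℂ) → (G → ℂ)} (hiso : IsLinearIsometryOn (zspan S₁) τ₁)
    (hext : ∀ α ∈ zspanOn S₁ {1}ᶜ, τ₁ α = dadeIsometry A₀ L R α) {Y : G → ℂ}
    (hY : Y ∈ zspan (τ₁ '' S₁)) (ω : ↥W →* ℂˣ) : classInner Y (η ω) = 0 := by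
  refine zspan_induction (p := fun Y => classInner Y (η ω) = 0) ?_ ?_ ?_ ?_ hY
  · exact classInner_zero_left _
  · rintro _ ⟨χ, hχ, rfl⟩
    exact coherent_ortho_cycTIiso hD hη hodd hS₁ hconj hiso hext hχ (hirr χ hχ) ω
  · intro α _ β _ ha hb
    rw [classInner_add_left, ha, hb, add_zero]
  · intro m α _ ha
    rw [classInner_zsmul_left, ha, mul_zero]

theorem span_gen {S₁ : Set (↥L → ℂ)} {τ₁ : (↥L → ℂ) → (G → ℂ)}
    (hiso : IsLinearIsometryOn (zspan S₁) τ₁) {Y : G → ℂ} (hY : Y ∈ zspan (τ₁ '' S₁)) :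
    IsGeneralizedCharacter G Y :=
  gen_of_mem_zspan (by rintro _ ⟨χ, hχ, rfl⟩; exact lin_gen hiso (zspan_subset hχ)) hY

/-- The general form of (10.5). -/
theorem bridge_coherence (h : Hyp L K W W₁ W₂ A A₀ R μ δ η d e n) {S₁ : Set (↥L → ℂ)}
    (hS₁ : S₁ ⊆ seqIndOf L K K ⊥)
    (hirr : ∀ χ ∈ S₁, IsIrrCharacter ↥L χ) (hconj : ∀ χ ∈ S₁, conjFun χ ∈ S₁)
    {τ₁ : (↥L → ℂ) → (G → ℂ)} (hiso : IsLinearIsometryOn (zspan S₁) τ₁)
    (hext : ∀ α ∈ zspanOn S₁ {1}ᶜ, τ₁ α = dadeIsometry A₀ L R α) {ζ : ↥L → ℂ}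
    (hζ : IsIrrCharacter ↥L ζ) (hζS : ζ ∈ seqIndOf L K K ⊥) (hζ1 : ζ 1 = (Nat.card W₁ : ℂ))
    {φ ψ : ↥W →* ℂˣ} (hφ : φ ∈ lin₁ W W₂) (hψ : ψ ∈ lin₁ W W₁) (hψ1 : ψ ≠ 1) {X Y : G → ℂ}
    (hXY : dadeIsometry A₀ L R (Ctx.alpha μ e n ζ φ ψ) = X + Y) (hY : Y ∈ zspan (τ₁ '' S₁))
    (horth : classInner X Y = 0) (hn : classInner Y Y = (n : ℂ) ^ 2) :
    X = (e : ℂ) • (η (φ * ψ) - η φ) := by
  have hX : X = dadeIsometry A₀ L R (Ctx.alpha μ e n ζ φ ψ) - Y := by rw [hXY]; abel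
  have hYgen := span_gen hiso hY
  have hXgen : IsGeneralizedCharacter G X := by
    rw [hX]; exact gen_sub (tau_alpha_gen h hζ hζS hζ1 hφ hψ hψ1) hYgen
  have hXX : classInner X X = 2 := by
    have h1 := tau_alpha_norm h hζ hζS hζ1 hφ hψ hψ1
    rw [hXY] at h1
    simp only [classInner_add_left, classInner_add_right, horth,
      classInner_comm_eq_zero horth, hn] at h1
    linear_combination h1
  refine PF3bUnique.eq_signed_sub_cTIiso h.hD.cyclicTI h.hη hXgen hXX ?_ (Or.inl fun w hw => ?_)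
    h.e_sgn fun w hw₁ hw₂ => ?_
  · intro h'
    exact hψ1 (mul_left_cancel (h'.trans (lin_mul_one φ).symm))
  · rw [MonoidHom.mul_apply, hψ w hw, mul_one]
  · rw [hX, Pi.sub_apply, tau_alpha_V h hζ hζS hφ hψ hψ1 w hw₁ hw₂,
      PF3b.vanish_of_orthogonal h.hη h.hD.cyclicTI (gen_isClassFunction hYgen)
        (span_ortho_eta h.hD h.hη h.odd hS₁ hirr hconj hiso hext hY)
        (v := (w : G)) ⟨w.2, fun h' => h'.elim hw₁ hw₂⟩, sub_zero]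

/-! ### Coherent case -/

section coherent

variable (h : Hyp L K W W₁ W₂ A A₀ R μ δ η d e n) {τ₁ : (↥L → ℂ) → (G → ℂ)}
  (hiso : IsLinearIsometryOn (zspan (seqIndOf L K K ⊥)) τ₁)
  (hext : ∀ α ∈ zspanOn (seqIndOf L K K ⊥) {1}ᶜ, τ₁ α = dadeIsometry A₀ L R α)
include h hiso hext

/-- `μ_k ∈ S` -/
theorem colSum_mem {ψ : ↥W →* ℂˣ} (hψ : ψ ∉ lin₁ W W₂) :
    colSum W W₂ μ ψ ∈ seqIndOf L K K ⊥ :=
  prTIred_mem_seqIndOf h.hD h.hμ hψ

theorem colSum_one {ψ : ↥W →* ℂˣ} (hψ : ψ ∉ lin₁ W W₂) :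
    colSum W W₂ μ ψ 1 = (Nat.card W₁ : ℂ) * d := by
  rw [colSum_eq_sum (direct h.hD), Finset.sum_apply, Finset.sum_congr rfl (g := fun _ => (d : ℂ)),
    Finset.sum_const, card_linFin, nsmul_eq_mul]
  intro φ hφ
  rw [mem_linFin] at hφ
  refine h.deg _ fun hmem => hψ ?_
  have := mul_mem_lin₁ (inv_mem_lin₁ hφ) hmem
  exact (inv_mul_cancel_left φ ψ) ▸ this

/-- `μ_k - d ζ` is an integer combination of `S` vanishing at `1`. -/
theorem colSum_sub_mem {ζ : ↥L → ℂ} (hζS : ζ ∈ seqIndOf L K K ⊥)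
    (hζ1 : ζ 1 = (Nat.card W₁ : ℂ)) {ψ : ↥W →* ℂˣ} (hψ : ψ ∉ lin₁ W W₂) :
    colSum W W₂ μ ψ - (d : ℤ) • ζ ∈ zspanOn (seqIndOf L K K ⊥) {1}ᶜ := by
  refine mem_zspanOn_one_iff.2 ⟨zspan_sub (zspan_subset (colSum_mem h hiso hext hψ))
    (zspan_zsmul _ (zspan_subset hζS)), ?_⟩
  rw [Pi.sub_apply, Pi.smul_apply, colSum_one h hiso hext hψ, hζ1, zsmul_eq_mul]
  push_cast
  ring

/-- `ζ - ζ̄` -/
theorem sub_conj_mem {ζ : ↥L → ℂ} (hζS : ζ ∈ seqIndOf L K K ⊥)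
    (hζ1 : ζ 1 = (Nat.card W₁ : ℂ)) :
    ζ - conjFun ζ ∈ zspanOn (seqIndOf L K K ⊥) {1}ᶜ := by
  refine mem_zspanOn_one_iff.2 ⟨zspan_sub (zspan_subset hζS) (zspan_subset (S_conj hζS)), ?_⟩
  rw [Pi.sub_apply, conjFun_apply, hζ1]
  simp

/-- (10.5), the inner product with `τ₁ ζ`. -/
theorem inner_tau_alpha {ζ : ↥L → ℂ} (hζ : IsIrrCharacter ↥L ζ)
    (hζS : ζ ∈ seqIndOf L K K ⊥) (hζ1 : ζ 1 = (Nat.card W₁ : ℂ))
    {φ ψ : ↥W →* ℂˣ} (hφ : φ ∈ lin₁ W W₂) (hψ : ψ ∈ lin₁ W W₁) (hψ1 : ψ ≠ 1) :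
    classInner (dadeIsometry A₀ L R (Ctx.alpha μ e n ζ φ ψ)) (τ₁ ζ) = -(n : ℂ) := by
  classical
  set T := dadeIsometry A₀ L R (Ctx.alpha μ e n ζ φ ψ) with hT
  have hTgen : IsGeneralizedCharacter G T := tau_alpha_gen h hζ hζS hζ1 hφ hψ hψ1
  have hζz := zspan_subset hζS
  obtain ⟨ψ', hψ', hψ'1, hne⟩ := h.exists_ne ψ
  have hψ'L := notMem_lin₁ h.hD hψ' hψ'1
  have hkz := zspan_subset (colSum_mem h hiso hext hψ'L)
  obtain ⟨a, ha⟩ := gen_inner hTgen (lin_gen hiso hζz)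
  obtain ⟨b, hb⟩ := gen_inner hTgen (lin_gen hiso hkz)
  have hβ := colSum_sub_mem h hiso hext hζS hζ1 hψ'L
  have h1 : classInner T (τ₁ (colSum W W₂ μ ψ' - (d : ℤ) • ζ)) = (d : ℂ) * n := by
    rw [hext _ hβ, hT, dade_inner h.hD (alpha_classFun h hζ φ ψ)
      (alpha_supp h hζS hζ1 hφ hψ hψ1)
      (gen_isClassFunction (zspan_gen (le_refl _) hβ.1))
      (fun x hx => zspanOn_supp h.hD (le_refl _) hβ x fun hxA => hx (A_subset_A₀ h.hD hxA)),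
      classInner_sub_right, classInner_zsmul_right,
      inner_alpha_colSum h hζ hζS hφ hψ hψ' hψ'1, if_neg hne.symm,
      inner_alpha_zeta h hζ hζS]
    push_cast
    ring
  rw [span_sub hiso hkz (zspan_zsmul _ hζz), lin_zsmul hiso hζz, classInner_sub_right,
    classInner_zsmul_right, ha, hb] at h1
  have h2 : b = d * (a + n) := by
    have : (b : ℂ) = ((d * (a + n) : ℤ) : ℂ) := by
      push_cast at h1 ⊢
      linear_combination h1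
    exact_mod_cast this
  have h3 : classInner (τ₁ (colSum W W₂ μ ψ')) (τ₁ (colSum W W₂ μ ψ')) =
      ((Nat.card W₁ : ℤ) : ℂ) := by
    rw [lin_inner hiso hkz hkz, norm_colSum (direct h.hD) (mu_orthonormal h.hμ)]
    simp
  have h4 : classInner T T = ((2 + n ^ 2 : ℤ) : ℂ) := by
    rw [hT, tau_alpha_norm h hζ hζS hζ1 hφ hψ hψ1]
    push_cast; ring
  have h5 := int_cauchy h4 h3 hb (by have := h.three_le₁; omega)
  rw [h2] at h5
  have h6 : a + n = 0 := PF10Arith.arith_10_5 h.e_sgn h.n_mul h.n_pos.le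
    (by exact_mod_cast h.d_odd) (by exact_mod_cast h.d_gt) (by exact_mod_cast h.odd₁)
    (by exact_mod_cast h.three_le₁) h5
  rw [ha]
  have : a = -n := by omega
  rw [this]
  push_cast
  ring

/-- Peterfalvi (10.5). -/
theorem tau_alpha {ζ : ↥L → ℂ} (hζ : IsIrrCharacter ↥L ζ)
    (hζS : ζ ∈ seqIndOf L K K ⊥) (hζ1 : ζ 1 = (Nat.card W₁ : ℂ))
    {φ ψ : ↥W →* ℂˣ} (hφ : φ ∈ lin₁ W W₂) (hψ : ψ ∈ lin₁ W W₁) (hψ1 : ψ ≠ 1) :
    dadeIsometry A₀ L R (Ctx.alpha μ e n ζ φ ψ) =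
      (e : ℂ) • (η (φ * ψ) - η φ) - n • τ₁ ζ := by
  classical
  set T := dadeIsometry A₀ L R (Ctx.alpha μ e n ζ φ ψ) with hT
  have hsub : ({ζ, conjFun ζ} : Set (↥L → ℂ)) ⊆ seqIndOf L K K ⊥ := by
    rintro χ (rfl | rfl)
    · exact hζS
    · exact S_conj hζS
  have hζz : ζ ∈ zspan ({ζ, conjFun ζ} : Set (↥L → ℂ)) := zspan_subset (Or.inl rfl)
  have hiso' : IsLinearIsometryOn (zspan ({ζ, conjFun ζ} : Set (↥L → ℂ))) τ₁ :=
    lin_mono hiso (zspan_mono hsub)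
  have hnn : classInner (τ₁ ζ) (τ₁ ζ) = 1 := by
    rw [lin_inner hiso' hζz hζz, classInner_irr_self hζ]
  have key := bridge_coherence h hsub (τ₁ := τ₁) ?_ ?_ hiso'
    (fun α hα => hext α (zspanOn_mono hsub hα)) hζ hζS hζ1 hφ hψ hψ1
    (X := T + n • τ₁ ζ) (Y := -(n • τ₁ ζ)) (by rw [← hT]; abel)
    (zspan_neg (zspan_zsmul _ (zspan_subset ⟨ζ, Or.inl rfl, rfl⟩))) ?_ ?_
  · rw [← key]; abel
  · rintro χ (rfl | rfl)
    · exact hζ
    · exact isIrr_conjFun hζ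
  · rintro χ (rfl | rfl)
    · exact Or.inr rfl
    · rw [conjFun_conjFun]; exact Or.inl rfl
  · rw [classInner_neg_right, classInner_add_left, classInner_zsmul_right, classInner_zsmul_right,
      classInner_zsmul_left, hnn, hT, inner_tau_alpha h hiso hext hζ hζS hζ1 hφ hψ hψ1]
    ring
  · rw [classInner_neg_left, classInner_neg_right, classInner_zsmul_left, classInner_zsmul_right,
      hnn]
    ring

/-- Peterfalvi (10.6)(a), first part, for a column index. -/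
theorem tau_colSum_aux {ζ : ↥L → ℂ} (hζ : IsIrrCharacter ↥L ζ)
    (hζS : ζ ∈ seqIndOf L K K ⊥) (hζ1 : ζ 1 = (Nat.card W₁ : ℂ))
    {ψ : ↥W →* ℂˣ} (hψ : ψ ∈ lin₁ W W₁) (hψ1 : ψ ≠ 1) :
    τ₁ (colSum W W₂ μ ψ) = (e : ℂ) • colSum W W₂ η ψ := by
  classical
  have hd := direct h.hD
  have hon : Orthonormal η := orthonormal_of_fam h.hη
  have hψL := notMem_lin₁ h.hD hψ hψ1
  have hζz := zspan_subset hζS
  have hkz := zspan_subset (colSum_mem h hiso hext hψL)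
  rcases coherent_prDade_TIred h.hD h.hμ h.hη h.odd (le_refl _) (fun χ hχ => S_conj hχ) hiso hext
    ⟨ζ, hζS, hζ⟩ (colSum_mem h hiso hext hψL) with h1 | h1
  · rw [h1, h.sgn _ hψL]
  · exfalso
    rw [h.sgn _ hψL] at h1
    -- compute `⟨α^τ, τ₁ μ_j⟩` in two ways
    have hφ : (1 : ↥W →* ℂˣ) ∈ lin₁ W W₂ := fun _ _ => rfl
    have hβ := colSum_sub_mem h hiso hext hζS hζ1 hψL
    have h2 : classInner (dadeIsometry A₀ L R (Ctx.alpha μ e n ζ 1 ψ))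
        (τ₁ (colSum W W₂ μ ψ - (d : ℤ) • ζ)) = 1 + (d : ℂ) * n := by
      rw [hext _ hβ, dade_inner h.hD (alpha_classFun h hζ 1 ψ)
        (alpha_supp h hζS hζ1 hφ hψ hψ1)
        (gen_isClassFunction (zspan_gen (le_refl _) hβ.1))
        (fun x hx => zspanOn_supp h.hD (le_refl _) hβ x fun hxA => hx (A_subset_A₀ h.hD hxA)),
        classInner_sub_right, classInner_zsmul_right,
        inner_alpha_colSum h hζ hζS hφ hψ hψ hψ1, if_pos rfl,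
        inner_alpha_zeta h hζ hζS]
      push_cast
      ring
    rw [span_sub hiso hkz (zspan_zsmul _ hζz), lin_zsmul hiso hζz, classInner_sub_right,
      classInner_zsmul_right, inner_tau_alpha h hiso hext hζ hζS hζ1 hφ hψ hψ1, h1,
      tau_alpha h hiso hext hζ hζS hζ1 hφ hψ hψ1, lin_one_mul] at h2
    have hort : classInner (τ₁ ζ) (colSum W W₂ η ψ⁻¹) = 0 := by
      rw [inner_colSum_right hd]
      exact Finset.sum_eq_zero fun φ _ => coherent_ortho_cycTIiso h.hD h.hη h.odd (le_refl _)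
        (fun χ hχ => S_conj hχ) hiso hext hζS hζ _
    have hn1 : ¬ (∀ w : ↥W, (w : G) ∈ W₂ → ψ w = ψ⁻¹ w) := by
      intro h'
      have hm : ψ * (ψ⁻¹)⁻¹ ∈ lin₁ W W₂ := mul_inv_mem_lin₁.2 h'
      have hm' : ψ * (ψ⁻¹)⁻¹ ∈ lin₁ W W₁ := mul_mem_lin₁ hψ (inv_mem_lin₁ (inv_mem_lin₁ hψ))
      have h3 := eq_one_of_mem hd hm' hm
      have h4 : ψ = ψ⁻¹ := mul_inv_eq_one.1 h3
      exact PF3bBasic.inv_ne_self h.hD.cyclicTI hψ1 h4.symm
    have hn2 : ¬ (∀ w : ↥W, (w : G) ∈ W₂ → (1 : ↥W →* ℂˣ) w = ψ⁻¹ w) := by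
      intro h'
      apply hψL
      intro w hw
      have h3 := h' w hw
      rw [MonoidHom.one_apply, MonoidHom.inv_apply, eq_comm, inv_eq_one] at h3
      exact h3
    simp only [classInner_neg_right, classInner_sub_left, classInner_smul_left,
      classInner_smul_right, classInner_zsmul_left, inner_fam_colSum hd hon, if_neg hn1,
      if_neg hn2, hort] at h2
    have h3 : (1 : ℂ) = 0 := by
      push_cast at h2
      linear_combination -h2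
    exact one_ne_zero h3

/-- Peterfalvi (10.6)(a), first part. -/
theorem tau_colSum {ζ : ↥L → ℂ} (hζ : IsIrrCharacter ↥L ζ)
    (hζS : ζ ∈ seqIndOf L K K ⊥) (hζ1 : ζ 1 = (Nat.card W₁ : ℂ))
    {ω : ↥W →* ℂˣ} (hω : ω ∉ lin₁ W W₂) :
    τ₁ (colSum W W₂ μ ω) = (e : ℂ) • colSum W W₂ η ω := by
  obtain ⟨φ, hφ, ψ, hψ, rfl⟩ := exists_lin_mul (direct h.hD) ω
  rw [colSum_mul_of_mem hφ, colSum_mul_of_mem hφ]
  refine tau_colSum_aux h hiso hext hζ hζS hζ1 hψ ?_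
  rintro rfl
  exact hω (by rw [lin_mul_one]; exact hφ)

/-- Peterfalvi (10.6)(a), second part: `(μ_0 - ζ)^τ = ∑_i η_i0 - ζ^τ₁`. -/
theorem tau_sub_zeta {ζ : ↥L → ℂ} (hζ : IsIrrCharacter ↥L ζ)
    (hζS : ζ ∈ seqIndOf L K K ⊥) (hζ1 : ζ 1 = (Nat.card W₁ : ℂ)) :
    dadeIsometry A₀ L R (colSum W W₂ μ 1 - ζ) = colSum W W₂ η 1 - τ₁ ζ := by
  classical
  have hd := direct h.hD
  obtain ⟨ψ, hψ, hψ1, -⟩ := h.exists_ne 1
  have hψL := notMem_lin₁ h.hD hψ hψ1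
  have hζz := zspan_subset hζS
  have hkz := zspan_subset (colSum_mem h hiso hext hψL)
  have hβ := colSum_sub_mem h hiso hext hζS hζ1 hψL
  have hee : (e : ℂ) * e = 1 := by exact_mod_cast h.e_sq
  have hnd : (n : ℂ) * (Nat.card W₁ : ℂ) = d - e := by exact_mod_cast h.n_mul
  -- the sum of the bridge characters
  have hsum : ∑ φ ∈ linFin hd, Ctx.alpha μ e n ζ φ ψ =
      (colSum W W₂ μ ψ - (d : ℤ) • ζ) - e • (colSum W W₂ μ 1 - ζ) := by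
    simp only [alpha_def]
    rw [Finset.sum_sub_distrib, Finset.sum_sub_distrib, colSum_eq_sum hd, colSum_eq_sum hd,
      ← Finset.smul_sum, Finset.sum_const, card_linFin]
    funext x
    simp only [Pi.sub_apply, zsmul_val, nsmul_val, Finset.sum_apply, lin_mul_one,
      Int.cast_natCast]
    linear_combination (-ζ x) * hnd
  have h1 : dadeIsometry A₀ L R (∑ φ ∈ linFin hd, Ctx.alpha μ e n ζ φ ψ) =
      (e : ℂ) • (colSum W W₂ η ψ - colSum W W₂ η 1) - ((d : ℂ) - e) • τ₁ ζ := by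
    rw [dade_sum, Finset.sum_congr rfl fun φ hφ =>
      tau_alpha h hiso hext hζ hζS hζ1 ((mem_linFin hd).1 hφ) hψ hψ1, Finset.sum_sub_distrib,
      ← Finset.smul_sum, Finset.sum_sub_distrib, Finset.sum_const, card_linFin,
      colSum_eq_sum hd, colSum_eq_sum hd]
    funext x
    simp only [Pi.sub_apply, zsmul_val, nsmul_val, csmul_val, Finset.sum_apply, lin_mul_one]
    linear_combination (-τ₁ ζ x) * hnd
  have h2 : dadeIsometry A₀ L R (colSum W W₂ μ ψ - (d : ℤ) • ζ) =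
      (e : ℂ) • colSum W W₂ η ψ - (d : ℂ) • τ₁ ζ := by
    rw [← hext _ hβ, span_sub hiso hkz (zspan_zsmul _ hζz), lin_zsmul hiso hζz,
      tau_colSum_aux h hiso hext hζ hζS hζ1 hψ hψ1]
    funext x
    simp only [Pi.sub_apply, zsmul_val, csmul_val, Int.cast_natCast]
  rw [hsum, dade_sub, dade_zsmul, h2] at h1
  funext x
  have h3 := congrFun h1 x
  simp only [Pi.sub_apply, zsmul_val, csmul_val] at h3 ⊢
  linear_combination (-e : ℂ) * h3 +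
    (-(dadeIsometry A₀ L R (colSum W W₂ μ 1 - ζ) x) + colSum W W₂ η 1 x - τ₁ ζ x) * hee

end coherent

/-! ### The statements of the skeleton -/

section skel

variable {ζ : ↥L → ℂ} {φ ψ : ↥W →* ℂˣ}

/-- Induction from `W` of `(φ - φ') (ψ - 1)`. -/
theorem ind_W_diff (hη : CyclicTIFam W W₁ W₂ η) {φ φ' ψ : ↥W →* ℂˣ} (hφ : φ ∈ lin₁ W W₂)
    (hφ' : φ' ∈ lin₁ W W₂) (hψ : ψ ∈ lin₁ W W₁) :
    indFun W (fun w => ((φ w : ℂ) - (φ' w : ℂ)) * ((ψ w : ℂ) - 1)) =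
      η (φ * ψ) - η (φ' * ψ) - η φ + η φ' := by
  have h1 := PF3b.ind_alpha hη hφ hψ
  have h2 := PF3b.ind_alpha hη hφ' hψ
  have h3 : (fun w : ↥W => ((φ w : ℂ) - (φ' w : ℂ)) * ((ψ w : ℂ) - 1)) =
      (fun w : ↥W => (1 - (φ w : ℂ)) * (1 - (ψ w : ℂ))) -
        (fun w : ↥W => (1 - (φ' w : ℂ)) * (1 - (ψ w : ℂ))) := by
    funext w
    simp only [Pi.sub_apply]
    ring
  rw [h3, IndRes.indFun_sub, h1, h2]
  abel

/-- `(α_ij - α_i'j)^τ = δ (η_ij - η_i'j - η_i0 + η_i'0)`. -/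
theorem dade_alpha_sub_row (h : Hyp L K W W₁ W₂ A A₀ R μ δ η d e n) (ζ : ↥L → ℂ)
    {φ φ' ψ : ↥W →* ℂˣ} (hφ : φ ∈ lin₁ W W₂)
    (hφ' : φ' ∈ lin₁ W W₂) (hψ : ψ ∈ lin₁ W W₁) (hψ1 : ψ ≠ 1) :
    dadeIsometry A₀ L R (Ctx.alpha μ e n ζ φ ψ) - dadeIsometry A₀ L R (Ctx.alpha μ e n ζ φ' ψ) =
      (e : ℂ) • (η (φ * ψ) - η (φ' * ψ) - η φ + η φ') := by
  have hφψ := mul_notMem_lin₁ h.hD hφ hψ hψ1
  have hsgn1 := (mu_lin₁ h.hD.primeTI h.hμ hφ).2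
  have hee : (e : ℂ) * e = 1 := by exact_mod_cast h.e_sq
  have hWL := W_le h.hD.primeTI
  set a : ↥W → ℂ := fun w => ((φ w : ℂ) - (φ' w : ℂ)) * ((ψ w : ℂ) - 1) with ha
  set β₁ : ↥(W.subgroupOf L) → ℂ := fun w =>
    ((φ * ψ) ⟨((w : ↥L) : G), w.2⟩ : ℂ) - ((φ' * ψ) ⟨((w : ↥L) : G), w.2⟩ : ℂ) with hβ₁
  set β₂ : ↥(W.subgroupOf L) → ℂ := fun w =>
    (φ ⟨((w : ↥L) : G), w.2⟩ : ℂ) - (φ' ⟨((w : ↥L) : G), w.2⟩ : ℂ) with hβ₂
  have h1 := h.hμ.ind_sub (φ * ψ) (φ' * ψ) (fun w hw => by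
    rw [MonoidHom.mul_apply, MonoidHom.mul_apply, hφ w hw, hφ' w hw]) β₁ (fun w hw => rfl)
  have h2 := h.hμ.ind_sub φ φ' (fun w hw => by rw [hφ w hw, hφ' w hw]) β₂ (fun w hw => rfl)
  rw [h.sgn _ hφψ] at h1
  rw [hsgn1] at h2
  have h3 : indFun (W.subgroupOf L) (β₁ - β₂) =
      (e : ℂ) • (Ctx.alpha μ e n ζ φ ψ - Ctx.alpha μ e n ζ φ' ψ) := by
    rw [IndRes.indFun_sub, h1, h2]
    funext x
    simp only [alpha_def, Pi.sub_apply, zsmul_val, csmul_val]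
    push_cast
    linear_combination (μ φ x - μ φ' x) * hee
  have h4 := dade_ind_W h.hD a (fun w hw => by
    rcases hw with hw | hw
    · rw [ha]; simp only; rw [hψ w hw]; simp
    · rw [ha]; simp only; rw [hφ w hw, hφ' w hw]; simp) (β₁ - β₂) (fun w hw => by
      simp only [hβ₁, hβ₂, ha, Pi.sub_apply, MonoidHom.mul_apply, Units.val_mul]
      ring)
  rw [h3, ind_W_diff h.hη hφ hφ' hψ] at h4
  have h5 : dadeIsometry A₀ L R ((e : ℂ) • (Ctx.alpha μ e n ζ φ ψ - Ctx.alpha μ e n ζ φ' ψ)) =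
      e • (dadeIsometry A₀ L R (Ctx.alpha μ e n ζ φ ψ) -
        dadeIsometry A₀ L R (Ctx.alpha μ e n ζ φ' ψ)) := by
    rw [← dade_sub, ← dade_zsmul]
    congr 1
    funext x
    rw [zsmul_val, csmul_val]
  rw [h5] at h4
  funext x
  have h6 := congrFun h4 x
  simp only [Pi.sub_apply, Pi.add_apply, zsmul_val, csmul_val] at h6 ⊢
  linear_combination (e : ℂ) * h6 - (dadeIsometry A₀ L R (Ctx.alpha μ e n ζ φ ψ) x -
        dadeIsometry A₀ L R (Ctx.alpha μ e n ζ φ' ψ) x) * hee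

/-- `(α_ij - α_ij')^τ = δ (η_ij - η_ij')`. -/
theorem dade_alpha_sub_col (h : Hyp L K W W₁ W₂ A A₀ R μ δ η d e n) (ζ : ↥L → ℂ)
    {φ ψ ψ' : ↥W →* ℂˣ} (hφ : φ ∈ lin₁ W W₂)
    (hψ : ψ ∈ lin₁ W W₁) (hψ1 : ψ ≠ 1) (hψ' : ψ' ∈ lin₁ W W₁) (hψ'1 : ψ' ≠ 1) :
    dadeIsometry A₀ L R (Ctx.alpha μ e n ζ φ ψ) - dadeIsometry A₀ L R (Ctx.alpha μ e n ζ φ ψ') =
      (e : ℂ) • (η (φ * ψ) - η (φ * ψ')) := by
  have hφψ := mul_notMem_lin₁ h.hD hφ hψ hψ1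
  have hφψ' := mul_notMem_lin₁ h.hD hφ hψ' hψ'1
  rw [← dade_sub]
  have h1 : Ctx.alpha μ e n ζ φ ψ - Ctx.alpha μ e n ζ φ ψ' = μ (φ * ψ) - μ (φ * ψ') := by
    rw [alpha_def, alpha_def]; abel
  rw [h1, prDade_sub_TIirr h.hD h.hμ h.hη hφψ hφψ' (fun w hw => by
    rw [MonoidHom.mul_apply, MonoidHom.mul_apply, hψ w hw, hψ' w hw])
    (by rw [h.deg _ hφψ, h.deg _ hφψ']), h.sgn _ hφψ]

/-- A second and a third row index. -/
theorem exists_two (h : Hyp L K W W₁ W₂ A A₀ R μ δ η d e n) (φ : ↥W →* ℂˣ) :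
    ∃ φ₁ ∈ lin₁ W W₂, ∃ φ₂ ∈ lin₁ W W₂, φ₁ ≠ φ ∧ φ₂ ≠ φ ∧ φ₁ ≠ φ₂ := by
  classical
  have h1 := card_linFin (direct h.hD)
  have h2 := h.three_le₁
  obtain ⟨φ₁, hφ₁, hne₁⟩ : ∃ φ₁ ∈ linFin (direct h.hD), φ₁ ∉ ({φ} : Finset (↥W →* ℂˣ)) := by
    by_contra hcon
    push Not at hcon
    have := Finset.card_le_card (fun x hx => hcon x hx : linFin (direct h.hD) ⊆ {φ})
    rw [Finset.card_singleton] at this
    omega
  obtain ⟨φ₂, hφ₂, hne₂⟩ : ∃ φ₂ ∈ linFin (direct h.hD), φ₂ ∉ ({φ, φ₁} : Finset (↥W →* ℂˣ)) := by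
    by_contra hcon
    push Not at hcon
    have h3 := Finset.card_le_card (fun x hx => hcon x hx : linFin (direct h.hD) ⊆ {φ, φ₁})
    have h4 := Finset.card_le_two (a := φ) (b := φ₁)
    omega
  simp only [Finset.mem_singleton, Finset.mem_insert, not_or] at hne₁ hne₂
  exact ⟨φ₁, (mem_linFin _).1 hφ₁, φ₂, (mem_linFin _).1 hφ₂, hne₁, hne₂.1, fun h => hne₂.2 h.symm⟩

/-- (10.5): `Y` of norm `n²` with `(τ α_ij, Y) = n²` for all `i` (fixed `j`). -/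
theorem tau_alpha_eq (h : Ctx.Hyp L K W W₁ W₂ A A₀ R μ δ η d e n) (hζ : Defs.IsZeta L K W₁ ζ)
    (hψ : ψ ∈ lin₁ W W₁) (hψ1 : ψ ≠ 1) {Y : G → ℂ}
    (hY : IsGeneralizedCharacter G Y) (hYn : classInner Y Y = (n : ℂ) ^ 2)
    (hαY : ∀ φ ∈ lin₁ W W₂,
      classInner (dadeIsometry A₀ L R (Ctx.alpha μ e n ζ φ ψ)) Y = (n : ℂ) ^ 2)
    (hφ : φ ∈ lin₁ W W₂) :
    dadeIsometry A₀ L R (Ctx.alpha μ e n ζ φ ψ) = (e : ℂ) • (η (φ * ψ) - η φ) + Y := by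
  classical
  have hd := direct h.hD
  have hon : Orthonormal η := orthonormal_of_fam h.hη
  have hgenη := gen_of_fam h.hη
  have hee : (e : ℂ) * e = 1 := by exact_mod_cast h.e_sq
  have heZ := h.e_sq
  obtain ⟨X, hX⟩ : ∃ X : (↥W →* ℂˣ) → G → ℂ,
      X = fun φ => dadeIsometry A₀ L R (Ctx.alpha μ e n ζ φ ψ) - Y := ⟨_, rfl⟩
  have hXgen : ∀ φ ∈ lin₁ W W₂, IsGeneralizedCharacter G (X φ) := fun φ hφ => by
    rw [hX]
    exact gen_sub (tau_alpha_gen h hζ.irr hζ.mem hζ.deg hφ hψ hψ1) hY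
  have hYα : ∀ φ ∈ lin₁ W W₂,
      classInner Y (dadeIsometry A₀ L R (Ctx.alpha μ e n ζ φ ψ)) = (n : ℂ) ^ 2 := by
    intro φ hφ
    rw [← classInner_conj_symm, hαY φ hφ]
    simp
  have hXX : ∀ φ ∈ lin₁ W W₂, classInner (X φ) (X φ) = 2 := by
    intro φ hφ
    simp only [hX, classInner_sub_left, classInner_sub_right, hYn, hαY φ hφ, hYα φ hφ,
      tau_alpha_norm h hζ.irr hζ.mem hζ.deg hφ hψ hψ1]
    ring
  -- differences
  have hdiff : ∀ φ' ∈ lin₁ W W₂, X φ - X φ' =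
      (e : ℂ) • (η (φ * ψ) - η (φ' * ψ) - η φ + η φ') := by
    intro φ' hφ'
    rw [← dade_alpha_sub_row h ζ hφ hφ' hψ hψ1]
    simp only [hX]
    abel
  -- integer coefficients
  have hc : ∀ ω, ∃ c : ℤ, classInner (X φ) (η ω) = c := fun ω => gen_inner (hXgen φ hφ) (hgenη ω)
  choose c hc using hc
  have hlin : ∀ {a b : ↥W →* ℂˣ}, a ∈ lin₁ W W₂ → b ∈ lin₁ W W₂ → a * ψ ≠ b := by
    intro a b ha hb hab
    exact mul_notMem_lin₁ h.hD ha hψ hψ1 (hab ▸ hb)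
  have hinj : ∀ {a b : ↥W →* ℂˣ}, a ≠ b → a * ψ ≠ b * ψ := fun hab h' =>
    hab (mul_right_cancel h')
  have hrel : ∀ φ' ∈ lin₁ W W₂, φ' ≠ φ → e * c (φ * ψ) - e * c φ + (e * c φ' - e * c (φ' * ψ)) = 2 := by
    intro φ' hφ' hne
    have h1 : classInner (X φ - X φ') (X φ - X φ') = 4 := by
      rw [hdiff φ' hφ']
      simp only [classInner_smul_left, classInner_smul_right, classInner_add_left,
        classInner_add_right, classInner_sub_left, classInner_sub_right, inner_self hon,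
        inner_ne hon (hinj hne), inner_ne hon (hinj hne.symm), inner_ne hon (hlin hφ hφ),
        inner_ne hon (hlin hφ hφ').symm, inner_ne hon (hlin hφ hφ'), inner_ne hon (hlin hφ hφ).symm,
        inner_ne hon (hlin hφ' hφ), inner_ne hon (hlin hφ' hφ).symm,
        inner_ne hon (hlin hφ' hφ'), inner_ne hon (hlin hφ' hφ').symm,
        inner_ne hon hne, inner_ne hon hne.symm, map_intCast]
      linear_combination 4 * hee
    have h2 : classInner (X φ) (X φ') + classInner (X φ') (X φ) = 0 := by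
      rw [classInner_sub_left, classInner_sub_right, classInner_sub_right, hXX φ hφ,
        hXX φ' hφ'] at h1
      linear_combination -h1
    have h3 : classInner (X φ) (X φ') = 0 := by
      have h4 := gen_inner_comm (hXgen φ hφ) (hXgen φ' hφ')
      rw [← h4] at h2
      have h5 : (2 : ℂ) * classInner (X φ) (X φ') = 0 := by linear_combination h2
      rcases mul_eq_zero.1 h5 with h6 | h6
      · norm_num at h6
      · exact h6
    have h4 : classInner (X φ) (X φ - X φ') = 2 := by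
      rw [classInner_sub_right, hXX φ hφ, h3, sub_zero]
    rw [hdiff φ' hφ'] at h4
    simp only [classInner_smul_right, classInner_add_right, classInner_sub_right, hc,
      map_intCast] at h4
    have h5 : ((e * c (φ * ψ) - e * c φ + (e * c φ' - e * c (φ' * ψ)) : ℤ) : ℂ) = ((2 : ℤ) : ℂ) := by
      push_cast
      linear_combination h4
    exact_mod_cast h5
  obtain ⟨φ₁, hφ₁, φ₂, hφ₂, hne₁, hne₂, hne₁₂⟩ := exists_two h φ
  -- Bessel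
  have hB := bessel hon hgenη (hXgen φ hφ) (n := 2) (by rw [hXX φ hφ]; norm_num) hc
    {φ * ψ, φ, φ₁ * ψ, φ₁, φ₂ * ψ, φ₂}
  rw [Finset.sum_insert, Finset.sum_insert, Finset.sum_insert, Finset.sum_insert,
    Finset.sum_insert, Finset.sum_singleton] at hB
  rotate_left
  · simp only [Finset.mem_singleton]; exact hlin hφ₂ hφ₂
  · simp only [Finset.mem_insert, Finset.mem_singleton, not_or]
    exact ⟨(hlin hφ₂ hφ₁).symm, hne₁₂⟩
  · simp only [Finset.mem_insert, Finset.mem_singleton, not_or]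
    exact ⟨hlin hφ₁ hφ₁, hinj hne₁₂, hlin hφ₁ hφ₂⟩
  · simp only [Finset.mem_insert, Finset.mem_singleton, not_or]
    exact ⟨(hlin hφ₁ hφ).symm, hne₁.symm, (hlin hφ₂ hφ).symm, hne₂.symm⟩
  · simp only [Finset.mem_insert, Finset.mem_singleton, not_or]
    exact ⟨hlin hφ hφ, hinj hne₁.symm, hlin hφ hφ₁, hinj hne₂.symm, hlin hφ hφ₂⟩
  have hsq : ∀ x : ℤ, x ^ 2 = (e * x) ^ 2 := fun x => by
    rw [mul_pow, pow_two e, heZ, one_mul]
  have hkey := PF3bUnique.arith_aux (e * c (φ * ψ)) (e * c φ) (e * c (φ₁ * ψ)) (e * c φ₁)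
    (e * c (φ₂ * ψ)) (e * c φ₂)
    (by rw [← hsq, ← hsq, ← hsq, ← hsq, ← hsq, ← hsq]; push_cast at hB; linarith)
    (hrel φ₁ hφ₁ hne₁) (hrel φ₂ hφ₂ hne₂)
  have hc1 : c (φ * ψ) = e := by
    have : e * (e * c (φ * ψ)) = e * 1 := by rw [hkey.1]
    rw [← mul_assoc, heZ] at this
    linarith
  have hc2 : c φ = -e := by
    have : e * (e * c φ) = e * (-1) := by rw [hkey.2]
    rw [← mul_assoc, heZ] at this
    linarith
  have hX1 : ∀ ω, classInner (η ω) (X φ) = c ω := by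
    intro ω
    rw [← classInner_conj_symm, hc]
    simp
  have hfin : X φ - (e : ℂ) • (η (φ * ψ) - η φ) = 0 := by
    apply classInner_self_eq_zero
    simp only [classInner_smul_left, classInner_smul_right,
        classInner_sub_left, classInner_sub_right, inner_self hon, hXX φ hφ, hc, hX1,
        inner_ne hon (hlin hφ hφ), inner_ne hon (hlin hφ hφ).symm, map_intCast, hc1, hc2]
    push_cast
    linear_combination (-2 : ℂ) * hee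
  rw [sub_eq_zero] at hfin
  rw [← hfin]
  simp only [hX]
  abel

/-- (10.6), with the coherent extension `τ₁` of `S`: `τ α_ij = e (η_ij - η_i0) - n τ₁ ζ`. -/
theorem coh_tau_alpha (h : Ctx.Hyp L K W W₁ W₂ A A₀ R μ δ η d e n) (hζ : Defs.IsZeta L K W₁ ζ)
    {τ₁ : (↥L → ℂ) → (G → ℂ)}
    (hτ₁ : Defs.IsCohExt (seqIndOf L K K ⊥) (dadeIsometry A₀ L R) τ₁)
    (hφ : φ ∈ lin₁ W W₂) (hψ : ψ ∈ lin₁ W W₁) (hψ1 : ψ ≠ 1) :
    dadeIsometry A₀ L R (Ctx.alpha μ e n ζ φ ψ) =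
      (e : ℂ) • (η (φ * ψ) - η φ) - (n : ℂ) • τ₁ ζ := by
  rw [tau_alpha h hτ₁.iso hτ₁.ext hζ.irr hζ.mem hζ.deg hφ hψ hψ1]
  funext x
  simp only [Pi.sub_apply, zsmul_val, csmul_val]

/-- (10.6): `τ₁ μ_j = e Σ_i η_ij`, `j ≠ 0`. -/
theorem coh_mu (h : Ctx.Hyp L K W W₁ W₂ A A₀ R μ δ η d e n) (hζ : Defs.IsZeta L K W₁ ζ)
    {τ₁ : (↥L → ℂ) → (G → ℂ)}
    (hτ₁ : Defs.IsCohExt (seqIndOf L K K ⊥) (dadeIsometry A₀ L R) τ₁) {ω : ↥W →* ℂˣ}
    (hω : ω ∉ lin₁ W W₂) : τ₁ (colSum W W₂ μ ω) = (e : ℂ) • colSum W W₂ η ω :=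
  tau_colSum h hτ₁.iso hτ₁.ext hζ.irr hζ.mem hζ.deg hω

/-- (10.6), EXPORTED. -/
theorem coh_isChi (h : Ctx.Hyp L K W W₁ W₂ A A₀ R μ δ η d e n) (hζ : Defs.IsZeta L K W₁ ζ)
    {τ₁ : (↥L → ℂ) → (G → ℂ)}
    (hτ₁ : Defs.IsCohExt (seqIndOf L K K ⊥) (dadeIsometry A₀ L R) τ₁) :
    Defs.IsChi W W₂ (dadeIsometry A₀ L R) μ η ζ (τ₁ ζ) where
  gen := lin_gen hτ₁.iso (zspan_subset hζ.mem)
  norm := by
    rw [lin_inner hτ₁.iso (zspan_subset hζ.mem) (zspan_subset hζ.mem), classInner_irr_self hζ.irr]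
  ortho := fun ω => coherent_ortho_cycTIiso h.hD h.hη h.odd (le_refl _) (fun _ hχ => S_conj hχ)
    hτ₁.iso hτ₁.ext hζ.mem hζ.irr ω
  eq := tau_sub_zeta h hτ₁.iso hτ₁.ext hζ.irr hζ.mem hζ.deg

end skel

end Cfsg.Agent.OddOrderCharacters.PF10.Bridge
end
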