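import Cfsg.Agent.OddOrderCharacters.PF10.Ctx
import Cfsg.Agent.OddOrderCharacters.PF7IndBasic
set_option linter.all false

/-!
# The Dade image of `α_ij`: values on `V`, multiplicity of the principal character (Peterfalvi (10.5))
-/

set_option autoImplicit false
set_option linter.unusedSectionVars false

open scoped ComplexConjugate
open Cfsg Cfsg.Agent.Characters.Core Cfsg.Agent.OddOrderCharacters.VChar
  Cfsg.Agent.OddOrderCharacters.PFDefs Cfsg.Agent.OddOrderCharacters.ColSum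
  Cfsg.Agent.OddOrderCharacters.PF4b.TIFam Cfsg.Agent.OddOrderCharacters.PF4b.Prime
  Cfsg.Agent.OddOrderCharacters.PF10.Ctx

universe u

namespace Cfsg.Agent.OddOrderCharacters.PF10.AlphaV

variable {G : Type u} [Group G] [Fintype G] {L K W W₁ W₂ : Subgroup G} [Fintype ↥L]
  {A A₀ : Set G} {R : G → Subgroup G}
  {μ : (↥W →* ℂˣ) → (↥L → ℂ)} {δ : (↥W →* ℂˣ) → ℤ} {η : (↥W →* ℂˣ) → (G → ℂ)}
  {d : ℕ} {e n : ℤ} {ζ : ↥L → ℂ} {φ ψ : ↥W →* ℂˣ}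

/-- `(τ α, 1) = (α, 1)`. -/
theorem dade_inner_one (hD : DadeHypothesis A₀ L R) {α : ↥L → ℂ}
    (hα : IsClassFunction ↥L α) (hαA : ∀ x : ↥L, (x : G) ∉ A₀ → α x = 0) :
    classInner (dadeIsometry A₀ L R α) (fun _ => 1) = classInner α (fun _ => 1) := by
  rw [PF7Rho.dade_reciprocity hD hα hαA (fun _ _ => rfl)]
  unfold classInner
  congr 1
  refine Finset.sum_congr rfl fun x _ => ?_
  by_cases hx : (x : G) ∈ A₀
  · rw [PF7Rho.rho_of_const (A := A₀) (L := L) (R := R) _ hx 1 (fun _ _ => rfl)]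
  · rw [hαA x hx, zero_mul, zero_mul]

theorem notMem_K (hD : PrimeDadeHyp L K K A A₀ W W₁ W₂ R) {w : G} (hw : w ∈ W)
    (hw₂ : w ∉ W₂) : w ∉ K := by
  intro h
  apply hw₂
  have h1 : w ∈ W ⊓ K := ⟨hw, h⟩
  rwa [W_inf_K hD.primeTI] at h1

variable (h : Hyp L K W W₁ W₂ A A₀ R μ δ η d e n)
include h

/-- The values of `α_ij` on `W \ W₂`. -/
theorem alpha_apply_W (hζS : ζ ∈ seqIndOf L K K ⊥)
    (hφ : φ ∈ lin₁ W W₂) (hψ : ψ ∈ lin₁ W W₁) (hψ1 : ψ ≠ 1) (w : ↥W) (hw : (w : G) ∈ L)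
    (hw₂ : (w : G) ∉ W₂) :
    Ctx.alpha μ e n ζ φ ψ ⟨w, hw⟩ = e * (((φ * ψ) w : ℂ) - (φ w : ℂ)) := by
  have hwK := notMem_K h.hD w.2 hw₂
  have hxv : Ctx.alpha μ e n ζ φ ψ ⟨w, hw⟩ =
      μ (φ * ψ) ⟨w, hw⟩ - e * μ φ ⟨w, hw⟩ - n * ζ ⟨w, hw⟩ := by
    simp [Ctx.alpha, zsmul_eq_mul]
  rw [hxv, h.hμ.eq_on _ w hw hw₂, h.hμ.eq_on _ w hw hw₂, S_off h.hD hζS ⟨w, hw⟩ hwK,
    h.sgn _ (mul_notMem_lin₁ h.hD hφ hψ hψ1), (mu_lin₁ h.hD.primeTI h.hμ hφ).2]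
  push_cast
  ring

/-- The values of `α_ij^τ` on `V`. -/
theorem dade_alpha_V (hζ : IsIrrCharacter ↥L ζ) (hζS : ζ ∈ seqIndOf L K K ⊥)
    (hφ : φ ∈ lin₁ W W₂) (hψ : ψ ∈ lin₁ W W₁) (hψ1 : ψ ≠ 1) (w : ↥W) (hw₁ : (w : G) ∉ W₁)
    (hw₂ : (w : G) ∉ W₂) :
    dadeIsometry A₀ L R (Ctx.alpha μ e n ζ φ ψ) w = e * (((φ * ψ) w : ℂ) - (φ w : ℂ)) := by
  have hwL : (w : G) ∈ L := W_le h.hD.primeTI w.2
  rw [dade_V h.hD (gen_isClassFunction (alpha_gen h hζ φ ψ)) w hw₁ hw₂ hwL,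
    alpha_apply_W h hζS hφ hψ hψ1 w hwL hw₂]

open Classical in
/-- The multiplicity of the principal character in `α_ij`. -/
theorem inner_alpha_one (hζ : IsIrrCharacter ↥L ζ) (hζS : ζ ∈ seqIndOf L K K ⊥)
    (hφ : φ ∈ lin₁ W W₂) (hψ : ψ ∈ lin₁ W W₁) (hψ1 : ψ ≠ 1) :
    classInner (Ctx.alpha μ e n ζ φ ψ) (fun _ => 1) = if φ = 1 then (-e : ℂ) else 0 := by
  have hon := mu_orthonormal h.hμ
  have h1 : φ * ψ ≠ 1 := fun h' => mul_notMem_lin₁ h.hD hφ hψ hψ1 (h' ▸ one_mem_lin₁)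
  have hz : classInner ζ (μ 1) = 0 := inner_zeta_mu h.hD h.hμ hζ hζS 1
  rw [← h.hμ.map_one, alpha_def, classInner_sub_left, classInner_sub_left,
    classInner_zsmul_left, classInner_zsmul_left, inner_ne hon h1, hz, hon φ 1]
  split_ifs <;> simp

open Classical in
/-- The multiplicity of the principal character in `α_ij^τ`. -/
theorem dade_alpha_one (hζ : IsIrrCharacter ↥L ζ) (hζS : ζ ∈ seqIndOf L K K ⊥)
    (hζ1 : ζ 1 = (Nat.card W₁ : ℂ))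
    (hφ : φ ∈ lin₁ W W₂) (hψ : ψ ∈ lin₁ W W₁) (hψ1 : ψ ≠ 1) :
    classInner (dadeIsometry A₀ L R (Ctx.alpha μ e n ζ φ ψ)) (fun _ => 1) =
      if φ = 1 then (-e : ℂ) else 0 := by
  rw [dade_inner_one h.hD.dade (gen_isClassFunction (alpha_gen h hζ φ ψ))
    (alpha_supp h hζS hζ1 hφ hψ hψ1), inner_alpha_one h hζ hζS hφ hψ hψ1]

end Cfsg.Agent.OddOrderCharacters.PF10.AlphaV
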